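import Cfsg.Agent.Lib.Cores.Basic
import Cfsg.Agent.Lib.Cores.PCore
import Cfsg.Agent.Lib.Cores.PiCore
import Cfsg.Agent.Lib.Cores.Fitting
import Cfsg.Agent.Lib.Cores.Residual
import Cfsg.Agent.Lib.Cores.Frattini
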