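import Cfsg.Agent.Lib.Characters.Eigen
import Cfsg.Agent.Lib.Characters.Rep
import Cfsg.Agent.Lib.Characters.Basic
import Cfsg.Agent.Lib.Characters.Ortho
import Cfsg.Agent.Lib.Characters.Induced
import Cfsg.Agent.Lib.Characters.Monomial
import Cfsg.Agent.Lib.Characters.Ito
import Cfsg.Agent.Lib.Characters.InducedMore
import Cfsg.Agent.Lib.Characters.Integrality
import Cfsg.Agent.Lib.Characters.Convolution
import Cfsg.Agent.Lib.Characters.Brauer
import Cfsg.Agent.Lib.Characters.BrauerMain
import Cfsg.Agent.Lib.Characters.Kernel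
import Cfsg.Agent.Lib.Characters.TI
import Cfsg.Agent.Lib.Characters.Perm
import Cfsg.Agent.Lib.Characters.Equiv
import Cfsg.Agent.Lib.Characters.Clifford
import Cfsg.Agent.Lib.Characters.Gram
import Cfsg.Agent.Lib.Characters.Extraspecial
import Cfsg.Agent.Lib.Characters.FrobeniusSchur
import Cfsg.Agent.Lib.Characters.Gallagher
import Cfsg.Agent.Lib.Characters.DegreeRatio
import Cfsg.Agent.Lib.Characters.Extension
import Cfsg.Agent.Lib.Characters.ExtensionChar
import Cfsg.Agent.Lib.Characters.ExtensionCoprime
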