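import Mathlib

/-!
Counting nilpotent endomorphisms of a finite vector space (Fine–Herstein).
-/

namespace Cfsg.Agent.Lib.NilpotentCount

variable {F : Type*} [Field F] {V : Type*} [AddCommGroup V] [Module F V]

theorem pow_apply_eq_zero_of_le {T : V →ₗ[F] V} {v : V} {i j : ℕ} (hij : i ≤ j)
    (h : (T ^ i) v = 0) : (T ^ j) v = 0 := by
  rw [← Nat.sub_add_cancel hij, pow_add, Module.End.mul_apply, h, map_zero]

/-- The iterates of a vector before its annihilating exponent are independent. -/
theorem iterates_independent (T : V →ₗ[F] V) (v : V) {d : ℕ} (hd : (T ^ d) v = 0)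
    (hmin : ∀ i < d, (T ^ i) v ≠ 0) :
    LinearIndependent F (fun i : Fin d => (T ^ (i : ℕ)) v) := by
  rw [Fintype.linearIndependent_iff]
  intro g hg
  suffices ∀ j : ℕ, ∀ hj : j < d, g ⟨j, hj⟩ = 0 from fun i => this i i.2
  intro j
  induction j using Nat.strong_induction_on with
  | _ j IH =>
    intro hj
    have h := congrArg (T ^ (d - 1 - j)) hg
    rw [map_sum, map_zero, Finset.sum_eq_single ⟨j, hj⟩] at h
    · rw [map_smul, smul_eq_zero] at h
      refine h.resolve_right ?_
      rw [← Module.End.mul_apply, ← pow_add]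
      exact hmin _ (by simp only; omega)
    · intro i _ hij
      rcases lt_trichotomy (i : ℕ) j with h' | h' | h'
      · rw [show g i = 0 from IH i h' i.2, zero_smul, map_zero]
      · exact absurd (Fin.ext h') hij
      · rw [map_smul, ← Module.End.mul_apply, ← pow_add,
          pow_apply_eq_zero_of_le (by omega) hd, smul_zero]
    · intro h'
      exact absurd (Finset.mem_univ _) h'

/-- The endomorphisms in question. -/
def Nil (F V : Type*) [Field F] [AddCommGroup V] [Module F V] : Type _ :=
  {T : V →ₗ[F] V // IsNilpotent T}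

instance [Finite V] : Finite (V →ₗ[F] V) := Finite.of_injective _ DFunLike.coe_injective
instance [Finite V] : Finite (Nil F V) := Subtype.finite

/-- Successor in a chain, ending in zero. -/
def shift {d : ℕ} (e : Fin d → V) (i : Fin d) : V :=
  if h : (i : ℕ) + 1 < d then e ⟨i + 1, h⟩ else 0

/-- Nilpotent endomorphisms with a given Jordan chain. -/
def Fibre {d : ℕ} (e : Fin d → V) : Type _ :=
  {T : V →ₗ[F] V // IsNilpotent T ∧ ∀ i, T (e i) = shift e i}

instance [Finite V] {d : ℕ} (e : Fin d → V) : Finite (Fibre (F := F) e) := Subtype.finite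

theorem chain_pow {d : ℕ} {e : Fin d → V} {T : V →ₗ[F] V} (hT : ∀ i, T (e i) = shift e i)
    (i : Fin d) (k : ℕ) :
    (T ^ k) (e i) = if h : (i : ℕ) + k < d then e ⟨i + k, h⟩ else 0 := by
  induction k with
  | zero => simp
  | succ k ih =>
    rw [pow_succ', Module.End.mul_apply, ih]
    by_cases h : (i : ℕ) + k < d
    · rw [dif_pos h, hT]
      simp only [shift, Nat.add_assoc]
    · rw [dif_neg h, map_zero, dif_neg (by omega)]

/-- Pairs (nilpotent endomorphism, vector) as chains with an endomorphism over them. -/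
theorem card_pairs [Fintype F] [Finite V] :
    Nat.card (Nil F V × V) = ∑ d : Fin (Module.finrank F V + 1),
      Nat.card (Σ e : {e : Fin (d : ℕ) → V // LinearIndependent F e}, Fibre (F := F) e.1) := by
  classical
  rw [← Nat.card_sigma]
  symm
  let g : (Σ d : Fin (Module.finrank F V + 1),
      Σ e : {e : Fin (d : ℕ) → V // LinearIndependent F e}, Fibre (F := F) e.1) → Nil F V × V :=
    fun u => (⟨u.2.2.1, u.2.2.2.1⟩, if h : 0 < (u.1 : ℕ) then u.2.1.1 ⟨0, h⟩ else 0)
  refine Nat.card_eq_of_bijective g ⟨?_, ?_⟩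
  · have hpow : ∀ u, ∀ k : ℕ, ((g u).1.1 ^ k) (g u).2 =
        if h : k < (u.1 : ℕ) then u.2.1.1 ⟨k, h⟩ else 0 := by
      intro u k
      simp only [g]
      by_cases h0 : 0 < (u.1 : ℕ)
      · rw [dif_pos h0, chain_pow u.2.2.2.2]
        simp
      · rw [dif_neg h0, map_zero, dif_neg (by omega)]
    have hne : ∀ u, ∀ k : ℕ, ((g u).1.1 ^ k) (g u).2 = 0 ↔ (u.1 : ℕ) ≤ k := by
      intro u k
      rw [hpow]
      by_cases h : k < (u.1 : ℕ)
      · rw [dif_pos h]
        exact ⟨fun e => absurd e (u.2.1.2.ne_zero _), fun e => absurd e (by omega)⟩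
      · rw [dif_neg h]
        exact ⟨fun _ => by omega, fun _ => rfl⟩
    intro u w huw
    have hd : u.1 = w.1 := by
      apply Fin.ext
      apply le_antisymm
      · exact (hne u w.1).mp (by rw [huw]; exact (hne w w.1).mpr le_rfl)
      · exact (hne w u.1).mp (by rw [← huw]; exact (hne u u.1).mpr le_rfl)
    obtain ⟨d, e, T⟩ := u
    obtain ⟨d', e', T'⟩ := w
    simp only at hd
    subst hd
    have he : e = e' := by
      apply Subtype.ext
      funext k
      have h1 := hpow ⟨d, e, T⟩ k
      have h2 := hpow ⟨d, e', T'⟩ k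
      rw [huw, h2] at h1
      simpa using h1.symm
    subst he
    have hT : T = T' := Subtype.ext (congrArg (fun x => x.1.1) huw)
    subst hT
    rfl
  · rintro ⟨⟨T, hT⟩, v⟩
    have hex : ∃ k, (T ^ k) v = 0 := by
      obtain ⟨k, hk⟩ := hT
      exact ⟨k, by rw [hk]; rfl⟩
    have hli := iterates_independent T v (Nat.find_spec hex) (fun i hi => Nat.find_min hex hi)
    have hle : Nat.find hex ≤ Module.finrank F V := by
      simpa using hli.fintype_card_le_finrank
    refine ⟨⟨⟨Nat.find hex, by omega⟩, ⟨_, hli⟩, ⟨T, hT, fun i => ?_⟩⟩, ?_⟩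
    · simp only [shift]
      rw [← Module.End.mul_apply, ← pow_succ']
      by_cases h : (i : ℕ) + 1 < Nat.find hex
      · rw [dif_pos h]
      · rw [dif_neg h]
        exact pow_apply_eq_zero_of_le (by omega) (Nat.find_spec hex)
    · refine Prod.ext rfl ?_
      simp only [g]
      by_cases h : 0 < Nat.find hex
      · rw [dif_pos h]
        simp
      · rw [dif_neg h]
        have h0 := Nat.find_spec hex
        rw [show Nat.find hex = 0 by omega] at h0
        simpa using h0.symm

variable {p q : Submodule F V}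

theorem intertwine_pow {T : V →ₗ[F] V} {B : q →ₗ[F] q} {π : V →ₗ[F] q}
    (h : π.comp T = B.comp π) (k : ℕ) (x : V) : π ((T ^ k) x) = (B ^ k) (π x) := by
  induction k with
  | zero => simp
  | succ k ih =>
    rw [pow_succ', Module.End.mul_apply, pow_succ', Module.End.mul_apply, ← ih]
    exact LinearMap.congr_fun h _

/-- The endomorphisms extending a chain: a map into the chain and a nilpotent map of a complement. -/
theorem card_fibre [Fintype F] [Finite V] {d : ℕ} (e : Fin d → V) (he : LinearIndependent F e) :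
    ∃ C : Submodule F V, Module.finrank F C + d = Module.finrank F V ∧
      Nat.card (Fibre (F := F) e) = Fintype.card F ^ (d * Module.finrank F C) * Nat.card (Nil F C) := by
  classical
  set W := Submodule.span F (Set.range e) with hW
  have hWd : Module.finrank F W = d := by rw [hW, finrank_span_eq_card he, Fintype.card_fin]
  obtain ⟨C, hC⟩ := W.exists_isCompl
  refine ⟨C, by rw [← hWd, add_comm, Submodule.finrank_add_eq_of_isCompl hC], ?_⟩
  let b : Module.Basis (Fin d) F W := Module.Basis.span he
  let S : W →ₗ[F] V := b.constr F (shift e)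
  have hb : ∀ i, ((b i : W) : V) = e i := fun i => Module.Basis.coe_span_apply he i
  have hS : ∀ T : V →ₗ[F] V, (∀ i, T (e i) = shift e i) ↔ T.comp W.subtype = S := by
    intro T
    constructor
    · intro h
      refine b.ext fun i => ?_
      simp [S, hb, h i]
    · intro h i
      rw [← hb i]
      have := LinearMap.congr_fun h (b i)
      simpa [S] using this
  have hSW : ∀ x : W, S x ∈ W := by
    intro x
    have hsub : LinearMap.range S ≤ W := by
      rw [Module.Basis.constr_range, Submodule.span_le]
      rintro _ ⟨i, rfl⟩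
      unfold shift
      split_ifs with h
      · exact Submodule.subset_span ⟨_, rfl⟩
      · exact Submodule.zero_mem _
    exact hsub ⟨x, rfl⟩
  let πC : V →ₗ[F] C := Submodule.projectionOnto C W hC.symm
  let πW : V →ₗ[F] W := Submodule.projectionOnto W C hC
  have hWd0 : ∀ T : V →ₗ[F] V, (∀ i, T (e i) = shift e i) → ∀ x ∈ W, (T ^ d) x = 0 := by
    intro T hT x hx
    have hle : W ≤ LinearMap.ker (T ^ d) := by
      rw [hW, Submodule.span_le]
      rintro _ ⟨i, rfl⟩
      rw [SetLike.mem_coe, LinearMap.mem_ker, chain_pow hT, dif_neg (by omega)]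
    exact hle hx
  have hint : ∀ T : V →ₗ[F] V, T.comp W.subtype = S →
      πC.comp T = ((πC.comp T).comp C.subtype).comp πC := by
    intro T hT
    apply LinearMap.ext
    intro x
    have hx : x = (πW x : V) + (πC x : V) := (Submodule.projection_add_projection_eq_self hC x).symm
    have hTW : T (πW x) ∈ W := by
      have h1 := LinearMap.congr_fun hT (πW x)
      simp only [LinearMap.comp_apply, Submodule.coe_subtype] at h1
      rw [h1]
      exact hSW _
    have h0 : πC (T (πW x)) = 0 := (Submodule.projectionOnto_apply_eq_zero_iff hC.symm).mpr hTW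
    simp only [LinearMap.comp_apply, Submodule.coe_subtype]
    conv_lhs => rw [hx]
    rw [map_add, map_add, h0, zero_add]
  let f : (C →ₗ[F] W) × Nil F C → Fibre (F := F) e := fun u =>
    ⟨LinearMap.ofIsCompl hC S (W.subtype.comp u.1 + C.subtype.comp u.2.1), by
      set T := LinearMap.ofIsCompl hC S (W.subtype.comp u.1 + C.subtype.comp u.2.1) with hT
      have hTS : T.comp W.subtype = S := LinearMap.ext fun w => by
        simp [hT, LinearMap.ofIsCompl_apply_left]
      have hB : (πC.comp T).comp C.subtype = u.2.1 := LinearMap.ext fun c => by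
        simp only [LinearMap.comp_apply, Submodule.coe_subtype, hT, LinearMap.ofIsCompl_apply_right,
          LinearMap.add_apply, map_add]
        rw [(Submodule.projectionOnto_apply_eq_zero_iff hC.symm).mpr (u.1 c).2, zero_add]
        exact Submodule.projectionOnto_apply_left hC.symm _
      refine ⟨?_, (hS T).mpr hTS⟩
      obtain ⟨k, hk⟩ := u.2.2
      refine ⟨d + k, LinearMap.ext fun x => ?_⟩
      rw [pow_add, Module.End.mul_apply, LinearMap.zero_apply]
      refine hWd0 T ((hS T).mpr hTS) _ ?_
      rw [← Submodule.projectionOnto_apply_eq_zero_iff hC.symm]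
      have h2 := intertwine_pow (hint T hTS) k x
      rw [hB, hk] at h2
      exact h2⟩
  rw [← Nat.card_eq_of_bijective f ⟨?_, ?_⟩, Nat.card_prod]
  · congr 1
    rw [Module.natCard_eq_pow_finrank (K := F), Module.finrank_linearMap, hWd,
      Nat.card_eq_fintype_card, mul_comm]
  · intro u w huw
    have h1 := congrArg Subtype.val huw
    simp only [f] at h1
    have h2 : ∀ c : C, ((u.1 c : W) : V) + ((u.2.1 c : C) : V) =
        ((w.1 c : W) : V) + ((w.2.1 c : C) : V) := fun c => by
      have h3 := LinearMap.congr_fun h1 c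
      simpa [LinearMap.ofIsCompl_apply_right] using h3
    have ha : ∀ c : C, u.1 c = w.1 c := fun c => by
      have h3 := congrArg πW (h2 c)
      simpa [πW, Submodule.projectionOnto_apply_left, Submodule.projectionOnto_apply_right] using h3
    have hb' : ∀ c : C, u.2.1 c = w.2.1 c := fun c => by
      have h3 := h2 c
      rw [ha c, add_right_inj] at h3
      exact Subtype.ext h3
    exact Prod.ext (LinearMap.ext ha) (Subtype.ext (LinearMap.ext hb'))
  · rintro ⟨T, hT, hTe⟩
    have hTS := (hS T).mp hTe
    have hnil : IsNilpotent ((πC.comp T).comp C.subtype) := by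
      obtain ⟨k, hk⟩ := hT
      refine ⟨k, LinearMap.ext fun c => ?_⟩
      have h2 := intertwine_pow (hint T hTS) k (c : V)
      rw [hk] at h2
      simp only [LinearMap.zero_apply, map_zero] at h2 ⊢
      rw [Submodule.projectionOnto_apply_left] at h2
      exact h2.symm
    refine ⟨((πW.comp T).comp C.subtype, ⟨_, hnil⟩), Subtype.ext ?_⟩
    simp only [f]
    refine LinearMap.ofIsCompl_eq hC (fun w => ?_) (fun c => ?_)
    · exact (LinearMap.congr_fun hTS w).symm
    · simp only [LinearMap.add_apply, LinearMap.comp_apply, Submodule.coe_subtype]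
      exact Submodule.projection_add_projection_eq_self hC _

/-- The counting identity. -/
theorem arith_identity (Q n : ℕ) (hQ : 1 ≤ Q) :
    ∑ d ∈ Finset.range (n + 1), (∏ i : Fin d, (Q ^ n - Q ^ (i : ℕ))) * Q ^ ((n - d) * (n - 1)) =
      Q ^ (n * n) := by
  have key : ∀ j ≤ n, ∑ d ∈ Finset.range j,
      (∏ i : Fin d, (Q ^ n - Q ^ (i : ℕ))) * Q ^ ((n - d) * (n - 1)) +
        (∏ i : Fin j, (Q ^ n - Q ^ (i : ℕ))) * Q ^ (n * (n - j)) = Q ^ (n * n) := by
    intro j hj
    induction j with
    | zero => simp
    | succ j ih =>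
      rw [Finset.sum_range_succ, Fin.prod_univ_castSucc]
      simp only [Fin.val_castSucc, Fin.val_last]
      rw [← ih (by omega)]
      have hm : n - j = (n - (j + 1)) + 1 := by omega
      have h1 : (n - j) * (n - 1) = j + n * (n - (j + 1)) := by
        have hn : n = (n - j) + j := by omega
        generalize hm' : n - (j + 1) = m at hm
        rw [hm] at hn ⊢
        subst hn
        simp only [show m + 1 + j - 1 = m + j by omega]
        ring
      have h2 : n * (n - j) = n + n * (n - (j + 1)) := by rw [hm]; ring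
      have hle : Q ^ j ≤ Q ^ n := Nat.pow_le_pow_right hQ (by omega)
      rw [h1, h2, pow_add, pow_add, add_assoc, mul_assoc (∏ i : Fin j, _), ← mul_add, ← add_mul,
        Nat.add_sub_cancel' hle]
  rw [Finset.sum_range_succ]
  have h := key n le_rfl
  simpa using h

/-- There are `q ^ (n * (n - 1))` nilpotent endomorphisms. -/
theorem card_nil [Fintype F] (n : ℕ) : ∀ {V : Type*} [AddCommGroup V] [Module F V] [Finite V],
    Module.finrank F V = n → Nat.card (Nil F V) = Fintype.card F ^ (n * (n - 1)) := by
  induction n using Nat.strong_induction_on with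
  | _ n IH =>
    intro V _ _ _ hn
    set Q := Fintype.card F with hQ
    have hQ2 : 2 ≤ Q := Fintype.one_lt_card
    rcases Nat.eq_zero_or_pos n with rfl | hpos
    · haveI : Subsingleton V := Module.finrank_zero_iff.mp hn
      haveI : Nonempty (Nil F V) := ⟨⟨0, IsNilpotent.zero⟩⟩
      haveI : Subsingleton (Nil F V) := ⟨fun a b => Subtype.ext (LinearMap.ext fun x =>
        Subsingleton.elim _ _)⟩
      simp [Nat.card_unique]
    have hV : Nat.card V = Q ^ n := by
      rw [Module.natCard_eq_pow_finrank (K := F), hn, Nat.card_eq_fintype_card]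
    have h := card_pairs (F := F) (V := V)
    rw [Nat.card_prod, hV, hn] at h
    rw [Fin.sum_univ_succ] at h
    have h0 : Nat.card (Σ e : {e : Fin ((0 : Fin (n + 1)) : ℕ) → V // LinearIndependent F e},
        Fibre (F := F) e.1) = Nat.card (Nil F V) := by
      refine Nat.card_eq_of_bijective (fun u => (⟨u.2.1, u.2.2.1⟩ : Nil F V)) ⟨?_, ?_⟩
      · rintro ⟨e, T⟩ ⟨e', T'⟩ huw
        have : e = e' := Subtype.ext (funext fun i => i.elim0)
        subst this
        have hT : T = T' := Subtype.ext (congrArg Subtype.val huw :)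
        subst hT
        rfl
      · rintro ⟨T, hT⟩
        haveI : IsEmpty (Fin ((0 : Fin (n + 1)) : ℕ)) := Fin.isEmpty
        exact ⟨⟨⟨fun i => i.elim0, linearIndependent_empty_type⟩, ⟨T, hT, fun i => i.elim0⟩⟩, rfl⟩
    have hd : ∀ i : Fin n, Nat.card (Σ e : {e : Fin ((i.succ : Fin (n + 1)) : ℕ) → V //
        LinearIndependent F e}, Fibre (F := F) e.1) =
        (∏ j : Fin ((i : ℕ) + 1), (Q ^ n - Q ^ (j : ℕ))) * Q ^ ((n - ((i : ℕ) + 1)) * (n - 1)) := by
      intro i
      haveI := Fintype.ofFinite {e : Fin ((i.succ : Fin (n + 1)) : ℕ) → V // LinearIndependent F e}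
      have hf : ∀ e : {e : Fin ((i.succ : Fin (n + 1)) : ℕ) → V // LinearIndependent F e},
          Nat.card (Fibre (F := F) e.1) = Q ^ ((n - ((i : ℕ) + 1)) * (n - 1)) := by
        intro e
        obtain ⟨C, hC1, hC2⟩ := card_fibre e.1 e.2
        rw [hC2]
        simp only [Fin.val_succ] at hC1 ⊢
        have hm : Module.finrank F C = n - ((i : ℕ) + 1) := by omega
        rw [IH _ (by omega) hm, hm, ← hQ, ← pow_add]
        congr 1
        have hlt : (i : ℕ) + 1 ≤ n := i.2
        generalize hm' : n - ((i : ℕ) + 1) = m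
        rw [show n - 1 = m + (i : ℕ) by omega]
        rcases m with _ | m
        · simp
        · rw [show m + 1 - 1 = m by omega]; ring
      rw [Nat.card_sigma, Finset.sum_congr rfl (fun e _ => hf e), Finset.sum_const, Finset.card_univ,
        ← Nat.card_eq_fintype_card, card_linearIndependent (by rw [hn, Fin.val_succ]; omega),
        smul_eq_mul, hn]
      simp only [Fin.val_succ, ← hQ]
    rw [h0, Finset.sum_congr rfl (fun i _ => hd i)] at h
    have hid := arith_identity Q n (by omega)
    rw [Finset.sum_range_succ', ← Fin.sum_univ_eq_sum_range] at hid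
    simp only [Finset.univ_eq_empty, Finset.prod_empty, one_mul, Nat.sub_zero] at hid
    have hQn : 2 ≤ Q ^ n := le_trans hQ2 (Nat.le_self_pow hpos.ne' Q)
    have hnn : Q ^ (n * n) = Q ^ n * Q ^ (n * (n - 1)) := by
      rw [← pow_add]
      congr 1
      obtain ⟨m, rfl⟩ : ∃ m, n = m + 1 := ⟨n - 1, by omega⟩
      rw [Nat.add_sub_cancel]; ring
    rw [hnn] at hid
    generalize hS : (∑ i : Fin n, (∏ j : Fin ((i : ℕ) + 1), (Q ^ n - Q ^ (j : ℕ))) *
      Q ^ ((n - ((i : ℕ) + 1)) * (n - 1))) = S at h hid
    obtain ⟨a, ha⟩ : ∃ a, Q ^ n = a + 2 := ⟨Q ^ n - 2, by omega⟩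
    rw [ha] at h hid
    nlinarith

end Cfsg.Agent.Lib.NilpotentCount
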